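import Groth.Prelude.Def_Red2
import Mathlib

/-!
# `X ↦ X - X^p` on the affine line is faithfully flat
-/

set_option autoImplicit false
set_option linter.style.haveILetI false

universe u

open Polynomial

noncomputable section

namespace Groth.Agent.KummerLib

variable (R : Type u) [CommRing R] [Nontrivial R] (p : ℕ)

/-- `X ↦ X - X ^ p` -/
def asHom : R[X] →+* R[X] := (aeval (X - X ^ p : R[X])).toRingHom

theorem faithfullyFlat_asHom (hp : 2 ≤ p) : (asHom R p).FaithfullyFlat := by
  let g : R[X][X] := X ^ p + (C X - X)
  have hg : g.Monic := monic_X_pow_add (lt_of_le_of_lt (degree_sub_le _ _)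
    (max_lt (lt_of_le_of_lt degree_C_le (by exact_mod_cast (by omega : 0 < p)))
      (lt_of_le_of_lt degree_X_le (by exact_mod_cast (by omega : 1 < p)))))
  let E : AdjoinRoot g →+* R[X] := AdjoinRoot.lift (asHom R p) X (by
    simp only [g, eval₂_add, eval₂_sub, eval₂_X_pow, eval₂_C, eval₂_X, asHom]
    simp only [AlgHom.toRingHom_eq_coe, RingHom.coe_coe, aeval_X]
    ring)
  let D : R[X] →+* AdjoinRoot g :=
    eval₂RingHom ((AdjoinRoot.of g).comp C) (AdjoinRoot.root g)
  have hDE : D.comp E = RingHom.id _ := by
    refine Ideal.Quotient.ringHom_ext (Polynomial.ringHom_ext (fun a => ?_) ?_)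
    · show D (E (AdjoinRoot.of g a)) = AdjoinRoot.of g a
      have : (D.comp (asHom R p)) = AdjoinRoot.of g := by
        refine Polynomial.ringHom_ext (fun r => ?_) ?_
        · simp [D, asHom]
        · have h0 := AdjoinRoot.eval₂_root g
          simp only [g, eval₂_add, eval₂_sub, eval₂_X_pow, eval₂_C, eval₂_X] at h0
          simp [D, asHom]
          linear_combination -h0
      rw [show E (AdjoinRoot.of g a) = asHom R p a from AdjoinRoot.lift_of _]
      exact RingHom.congr_fun this a
    · show D (E (AdjoinRoot.root g)) = AdjoinRoot.root g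
      rw [show E (AdjoinRoot.root g) = X from AdjoinRoot.lift_root _]
      simp [D]
  have hED : E.comp D = RingHom.id _ := by
    refine Polynomial.ringHom_ext (fun r => ?_) ?_
    · simp [D, E, asHom]
    · simp [D, E]
  have hE : Function.Bijective E :=
    Function.bijective_iff_has_inverse.2 ⟨D, RingHom.congr_fun hDE, RingHom.congr_fun hED⟩
  have hof : (AdjoinRoot.of g).FaithfullyFlat := by
    haveI := hg.free_adjoinRoot
    haveI : Nontrivial (AdjoinRoot g) := E.domain_nontrivial
    have : Module.FaithfullyFlat R[X] (AdjoinRoot g) := inferInstance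
    rw [← AdjoinRoot.algebraMap_eq]
    exact RingHom.faithfullyFlat_algebraMap_iff.2 this
  have : asHom R p = E.comp (AdjoinRoot.of g) := RingHom.ext fun a => by simp [E]
  rw [this]
  exact RingHom.FaithfullyFlat.stableUnderComposition _ _ hof (RingHom.FaithfullyFlat.of_bijective hE)

/-- the map of symmetric algebras sending the generator `t` to `t - t ^ p` -/
def symHom : SymmetricAlgebra R R →ₐ[R] SymmetricAlgebra R R :=
  SymmetricAlgebra.lift (LinearMap.toSpanSingleton R _
    (SymmetricAlgebra.ι R R 1 - SymmetricAlgebra.ι R R 1 ^ p))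

theorem faithfullyFlat_symHom (hp : 2 ≤ p) : (symHom R p).toRingHom.FaithfullyFlat := by
  let t := SymmetricAlgebra.ι R R 1
  let f : SymmetricAlgebra R R →ₐ[R] R[X] := SymmetricAlgebra.lift (LinearMap.toSpanSingleton R _ X)
  let g : R[X] →ₐ[R] SymmetricAlgebra R R := aeval t
  have hf : f t = X := by simp [f, t]
  have h1 : g.comp f = AlgHom.id R _ := SymmetricAlgebra.algHom_ext (LinearMap.ext_ring (by
    show g (f t) = t
    rw [hf]; simp [g]))
  have h2 : f.comp g = AlgHom.id R _ := Polynomial.algHom_ext (by
    show f (g X) = X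
    simp only [g, aeval_X, hf])
  have hfb : Function.Bijective f.toRingHom :=
    Function.bijective_iff_has_inverse.2 ⟨g, AlgHom.congr_fun h1, AlgHom.congr_fun h2⟩
  have hgb : Function.Bijective g.toRingHom :=
    Function.bijective_iff_has_inverse.2 ⟨f, AlgHom.congr_fun h2, AlgHom.congr_fun h1⟩
  have : symHom R p = (g.comp (aeval (X - X ^ p : R[X]))).comp f :=
    SymmetricAlgebra.algHom_ext (LinearMap.ext_ring (by
      show symHom R p t = g (aeval (X - X ^ p : R[X]) (f t))
      rw [hf]; simp [g, symHom, t]))
  rw [this]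
  exact RingHom.FaithfullyFlat.stableUnderComposition f.toRingHom (g.toRingHom.comp (asHom R p))
    (RingHom.FaithfullyFlat.of_bijective hfb)
    (RingHom.FaithfullyFlat.stableUnderComposition _ _ (faithfullyFlat_asHom R p hp)
      (RingHom.FaithfullyFlat.of_bijective hgb))

end Groth.Agent.KummerLib
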