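import Groth.Agent.KummerLib.Basic
import Groth.Agent.KummerLib.ASPoly
import Groth.Agent.GaPts.Basic
import Groth.Prelude.Def_TwC

/-!
# The Artin-Schreier sequence
-/

set_option autoImplicit false
set_option linter.style.haveILetI false
set_option backward.isDefEq.respectTransparency false
set_option backward.isDefEq.respectTransparency.types false

universe u

open CategoryTheory CategoryTheory.Limits MonoidalCategory CartesianMonoidalCategory MonObj
  AlgebraicGeometry Opposite TopologicalSpace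

noncomputable section

set_option synthInstance.maxHeartbeats 400000
set_option maxHeartbeats 1000000

namespace Groth.Agent.KummerLib

variable {p : ℕ} [Fact p.Prime] {S : Scheme.{u}}

/-- the prime field maps to rings in which `p` vanishes -/
def toR (R : Type u) [CommRing R] (h : (p : R) = 0) : ZMod p →+* R :=
  ZMod.castHom (ringChar.dvd h) R

theorem p_zero (hp : (p : Γ(S, ⊤)) = 0) (T : Over S) : (p : Γ(T.left, ⊤)) = 0 := by
  have := congrArg T.hom.appTop hp
  simpa using this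

theorem prod_sub_toR (R : Type u) [CommRing R] (h : (p : R) = 0) (a : R) :
    ∏ m : ZMod p, (a - toR R h m) = a ^ p - a := by
  have hp1 : 1 < p := (Fact.out : p.Prime).one_lt
  have key : (∏ m : ZMod p, (Polynomial.X - Polynomial.C m)) = Polynomial.X ^ p - Polynomial.X := by
    have hm : (Polynomial.X ^ p - Polynomial.X : Polynomial (ZMod p)).Monic :=
      Polynomial.monic_X_pow_sub (by rw [Polynomial.degree_X]; exact_mod_cast hp1)
    have hr : (Polynomial.X ^ p - Polynomial.X : Polynomial (ZMod p)).roots = Finset.univ.val := by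
      have := FiniteField.roots_X_pow_card_sub_X (ZMod p)
      rwa [ZMod.card] at this
    have := Polynomial.prod_multiset_X_sub_C_of_monic_of_roots_card_eq hm (by
      rw [hr, FiniteField.X_pow_card_sub_X_natDegree_eq _ hp1]
      simp [ZMod.card])
    rw [hr] at this
    exact this
  have := congrArg (Polynomial.eval₂ (toR R h) a) key
  rw [Polynomial.eval₂_finset_prod] at this
  simpa using this

theorem exists_mem_range_ι {Z : Type} (y : ↥(TwC.const S Z).left) :
    ∃ m : Z, y ∈ (Sigma.ι (fun _ : Z => S) m).opensRange := by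
  obtain ⟨m, x, hx⟩ := (sigmaOpenCover (fun _ : Z => S)).exists_eq y
  exact ⟨m, x, hx⟩

theorem eq_toUnit_pt {Z : Type} {T : Over S} (a : T ⟶ TwC.const S Z) (m : Z)
    (h : ∀ t, a.left t ∈ (Sigma.ι (fun _ : Z => S) m).opensRange) : a = toUnit T ≫ TwC.pt S Z m := by
  have hr : Set.range a.left ⊆ Set.range (Sigma.ι (fun _ : Z => S) m) := by
    rintro _ ⟨t, rfl⟩; exact h t
  have hl := IsOpenImmersion.lift_fac (Sigma.ι (fun _ : Z => S) m) a.left hr
  have h3 : Sigma.ι (fun _ : Z => S) m ≫ (TwC.const S Z).hom = 𝟙 S := Sigma.ι_desc _ _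
  have h2 : IsOpenImmersion.lift (Sigma.ι (fun _ : Z => S) m) a.left hr = T.hom := by
    rw [← Category.comp_id (IsOpenImmersion.lift (Sigma.ι (fun _ : Z => S) m) a.left hr), ← h3,
      ← Category.assoc, hl]
    exact Over.w a
  apply Over.OverMorphism.ext
  rw [← hl, h2]
  rfl

section Points

variable (hp : (p : Γ(S, ⊤)) = 0) (F : Red.Ga S ⟶ Red.Ga S)
  (hF : ∀ (T : Over S) (x : T ⟶ Red.Ga S), Red.gaFn (x ≫ F) = Red.gaFn x ^ p)

theorem gaFn_inv {T : Over S} (x : T ⟶ Red.Ga S) : Red.gaFn x⁻¹ = - Red.gaFn x := by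
  have := GaPts.gaFn_mul x x⁻¹
  rw [mul_inv_cancel, GaPts.gaFn_one] at this
  linear_combination -this

/-- `id - F` -/
abbrev asMap : Red.Ga S ⟶ Red.Ga S := 𝟙 (Red.Ga S) * F⁻¹

include hF in
theorem gaFn_asMap {T : Over S} (x : T ⟶ Red.Ga S) :
    Red.gaFn (x ≫ asMap F) = Red.gaFn x - Red.gaFn x ^ p := by
  rw [asMap, MonObj.comp_mul, GaPts.gaFn_mul, Category.comp_id, GrpObj.comp_inv, gaFn_inv, hF]
  ring

include hp hF in
theorem isMonHom_asMap : IsMonHom (asMap F) := by
  constructor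
  · refine GaPts.gaFn_injective _ ?_
    have h1 : η[Red.Ga S] = (1 : 𝟙_ (Over S) ⟶ Red.Ga S) := by
      rw [Hom.one_def, toUnit_unique (toUnit _) (𝟙 _), Category.id_comp]
    rw [gaFn_asMap F hF, h1, GaPts.gaFn_one, zero_pow (Fact.out : p.Prime).ne_zero, sub_zero]
  · refine GaPts.gaFn_injective _ ?_
    have h1 : μ[Red.Ga S] = fst (Red.Ga S) (Red.Ga S) * snd _ _ := by
      rw [Hom.mul_def, CartesianMonoidalCategory.lift_fst_snd, Category.id_comp]
    rw [gaFn_asMap F hF, h1, GaPts.gaFn_mul, MonObj.comp_mul, GaPts.gaFn_mul, tensorHom_fst,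
      tensorHom_snd, gaFn_asMap F hF, gaFn_asMap F hF]
    obtain ⟨r, hr⟩ := exists_add_pow_prime_eq (Fact.out : p.Prime)
      (Red.gaFn (fst (Red.Ga S) (Red.Ga S))) (Red.gaFn (snd (Red.Ga S) (Red.Ga S)))
    rw [hr, p_zero hp _]
    ring

variable {G' : Over S} [GrpObj G'] (e : G' ≅ TwC.const S (Multiplicative (ZMod p)))
  (he : TwC.IsConstGrp (Multiplicative (ZMod p)) G' e) (i : G' ⟶ Red.Ga S) [IsMonHom i]
  (hi : Red.gaFn (TwC.pt S (Multiplicative (ZMod p)) (Multiplicative.ofAdd 1) ≫ e.inv ≫ i) = 1)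

/-- the point of index `m` -/
abbrev gpt (m : ZMod p) : 𝟙_ (Over S) ⟶ G' :=
  TwC.pt S (Multiplicative (ZMod p)) (Multiplicative.ofAdd m) ≫ e.inv

include he hi in
theorem gaFn_gpt (T : Over S) (m : ZMod p) :
    Red.gaFn (toUnit T ≫ gpt e m ≫ i) = toR Γ(T.left, ⊤) (p_zero hp T) m := by
  let c : ZMod p →+ Γ(S, ⊤) := AddMonoidHom.mk' (fun a => (Red.gaFn (gpt e a ≫ i) : Γ(S, ⊤))) fun a b => by
    show _ = Red.gaFn (gpt e a ≫ i) + Red.gaFn (gpt e b ≫ i)
    rw [← GaPts.gaFn_mul, ← comp_mul']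
    congr 2
    exact (he _ _).symm
  have hc : c m = toR Γ(S, ⊤) hp m := by
    have h1 : c 1 = 1 := by simp only [c, AddMonoidHom.mk'_apply, Category.assoc]; exact hi
    obtain ⟨k, rfl⟩ := ZMod.natCast_zmod_surjective (n := p) m
    rw [map_natCast (toR Γ(S, ⊤) hp), ← nsmul_one k, map_nsmul, h1, nsmul_one]
  rw [GaPts.gaFn_comp]
  refine (congrArg (toUnit T).left.appTop hc).trans ?_
  exact RingHom.congr_fun (RingHom.ext_zmod (((toUnit T).left.appTop.hom).comp (toR Γ(S, ⊤) hp)) _) m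

include hF hp he hi in
theorem comp_asMap : i ≫ asMap F = 1 := by
  rw [← cancel_epi e.inv, MonObj.comp_one]
  refine Over.OverMorphism.ext (Sigma.hom_ext _ _ fun m => ?_)
  have : gpt e m.toAdd ≫ i ≫ asMap F = TwC.pt S (Multiplicative (ZMod p)) m ≫ 1 := by
    refine GaPts.gaFn_injective _ ?_
    have h1 := gaFn_gpt hp e he i hi (𝟙_ (Over S)) m.toAdd
    rw [toUnit_unique (toUnit _) (𝟙 _), Category.id_comp] at h1
    rw [MonObj.comp_one, GaPts.gaFn_one, ← Category.assoc, gaFn_asMap F hF, h1, ← map_pow, ZMod.pow_card,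
      sub_self]
  simp only [gpt, Category.assoc] at this
  exact congrArg CommaMorphism.left this

include hp he hi in
theorem eq_one_of_comp (T : Over S) (d : T ⟶ G') (h : d ≫ i = 1) : d = 1 := by
  let Z := Multiplicative (ZMod p)
  let y := (d ≫ e.hom).left
  let W : Z → T.left.Opens := fun m => y ⁻¹ᵁ (Sigma.ι (fun _ : Z => S) m).opensRange
  have hW : IsOpenCover W := IsOpenCover.mk (eq_top_iff.2 fun t _ =>
    Opens.mem_iSup.2 (exists_mem_range_ι (y t)))
  suffices key : ∀ m : Z, (W m).ι ≫ d.left = (W m).ι ≫ (1 : T ⟶ G').left from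
    Over.OverMorphism.ext ((T.left.openCoverOfIsOpenCover W hW).hom_ext _ _ key)
  intro m
  let j : Over.mk ((W m).ι ≫ T.hom) ⟶ T := Over.homMk (W m).ι
  have h2 : j ≫ d = toUnit _ ≫ gpt e (Multiplicative.toAdd m) := by
    rw [← cancel_mono e.hom, Category.assoc, Category.assoc,
      eq_toUnit_pt (j ≫ d ≫ e.hom) m (fun w => (show (W m).ι w ∈ W m from w.2))]
    simp [gpt, Z]
  suffices h5 : j ≫ d = j ≫ 1 from congrArg CommaMorphism.left h5
  rcases eq_or_ne (Multiplicative.toAdd m) 0 with h0 | h0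
  · rw [h2, h0, MonObj.comp_one]
    have h1 : gpt e (0 : ZMod p) = 1 := by
      have h := he (Multiplicative.ofAdd 0) (Multiplicative.ofAdd 0)
      rw [← ofAdd_add, add_zero] at h
      exact mul_eq_left.mp h
    rw [h1, MonObj.comp_one]
  · have h3 := congrArg (fun w => Red.gaFn (w ≫ i)) h2
    simp only [Category.assoc, h, MonObj.comp_one, GaPts.gaFn_one] at h3
    have h4 := h3.trans ((congrArg Red.gaFn (by simp only [gpt, Category.assoc])).trans
      (gaFn_gpt hp e he i hi (Over.mk ((W m).ι ≫ T.hom)) (Multiplicative.toAdd m)))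
    have hu := (IsUnit.mk0 _ h0).map (toR Γ((Over.mk ((W m).ι ≫ T.hom)).left, ⊤) (p_zero hp _))
    rw [← h4, isUnit_zero_iff] at hu
    haveI : IsEmpty ↥((W m : Scheme.{u})) := ⟨fun w => by
      haveI : Nontrivial Γ((Over.mk ((W m).ι ≫ T.hom)).left, ⊤) :=
        ((W m : Scheme.{u}).presheaf.germ ⊤ w trivial).hom.domain_nontrivial
      exact zero_ne_one hu⟩
    exact Over.OverMorphism.ext (((isInitialOfIsEmpty (X := (W m : Scheme.{u}))).hom_ext _ _ : _))

include hp hF he hi in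
theorem exists_lift' (T : Over S) (d : T ⟶ Red.Ga S) (h : d ≫ asMap F = 1) :
    ∃ z : T ⟶ G', z ≫ i = d := by
  classical
  let φ := toR Γ(T.left, ⊤) (p_zero hp T)
  let a := Red.gaFn d
  have ha : ∏ m : ZMod p, (a - φ m) = 0 := by
    have := congrArg Red.gaFn h
    rw [gaFn_asMap F hF, GaPts.gaFn_one] at this
    rw [prod_sub_toR]
    linear_combination -this
  let P : ZMod p → Γ(T.left, ⊤) := fun m => ∏ k ∈ Finset.univ.erase m, (a - φ k)
  let U : ZMod p → T.left.Opens := fun m => T.left.basicOpen (P m)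
  have hPm : ∀ m, (a - φ m) * P m = 0 := fun m => by
    rw [← ha]; exact Finset.mul_prod_erase Finset.univ (fun k => a - φ k) (Finset.mem_univ m)
  have hdiff : ∀ m k : ZMod p, m ≠ k → IsUnit (φ m - φ k) := fun m k hmk => by
    rw [← map_sub]; exact (IsUnit.mk0 _ (sub_ne_zero.2 hmk)).map φ
  have hU : IsOpenCover U := by
    refine IsOpenCover.mk (eq_top_iff.2 fun x _ => Opens.mem_iSup.2 ?_)
    let g := T.left.presheaf.germ ⊤ x trivial
    have h0 : ¬ IsUnit (g.hom (∏ m : ZMod p, (a - φ m))) := by rw [ha, map_zero]; exact not_isUnit_zero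
    obtain ⟨m, hm⟩ : ∃ m, ¬ IsUnit (g.hom (a - φ m)) := by
      by_contra hall
      push Not at hall
      exact h0 (by rw [map_prod, IsUnit.prod_iff]; exact fun k _ => hall k)
    refine ⟨m, ?_⟩
    refine (Scheme.mem_basicOpen_top _ _ _).2 ?_
    show IsUnit (g.hom (P m))
    rw [map_prod, IsUnit.prod_iff]
    intro k hk
    have e1 : g.hom (φ m - φ k) = g.hom (a - φ k) + -g.hom (a - φ m) := by
      rw [← map_neg, ← map_add]; ring_nf
    rcases IsLocalRing.isUnit_or_isUnit_of_isUnit_add (e1 ▸ (hdiff m k (Finset.ne_of_mem_erase hk).symm).map g.hom)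
      with h5 | h5
    · exact h5
    · exact absurd (by simpa using h5.neg) hm
  let 𝒰 := T.left.openCoverOfIsOpenCover U hU
  let f : ∀ m : ZMod p, (U m : Scheme.{u}) ⟶ G'.left := fun m =>
    ((U m).ι ≫ T.hom) ≫ (gpt e m).left
  have ha' : ∀ (m : ZMod p) {W : Scheme.{u}} (w : W ⟶ (U m : Scheme.{u})),
      (w ≫ (U m).ι).appTop (a - φ m) = 0 := fun m W w => by
    have hunit : IsUnit ((w ≫ (U m).ι).appTop (P m)) := by
      refine W.toRingedSpace.isUnit_of_isUnit_germ ⊤ _ fun q _ => ?_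
      refine (Scheme.mem_basicOpen_top _ _ q).1 ?_
      rw [← Scheme.preimage_basicOpen_top]
      exact ((w q).2 : (U m).ι (w q) ∈ U m)
    refine hunit.mul_left_eq_zero.1 ?_
    rw [← map_mul, hPm, map_zero]
  have hcompat : ∀ m k, pullback.fst (𝒰.f m) (𝒰.f k) ≫ f m = pullback.snd (𝒰.f m) (𝒰.f k) ≫ f k := by
    intro m k
    rcases eq_or_ne m k with rfl | hmk
    · simp only [f, ← Category.assoc]
      congr 2
      exact pullback.condition
    · haveI : IsEmpty ↥(pullback (𝒰.f m) (𝒰.f k)) := by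
        refine ⟨fun q => ?_⟩
        have e1 := ha' m (pullback.fst (𝒰.f m) (𝒰.f k))
        have e2 : (pullback.fst (𝒰.f m) (𝒰.f k) ≫ (U m).ι).appTop (a - φ k) = 0 := by
          rw [show pullback.fst (𝒰.f m) (𝒰.f k) ≫ (U m).ι = pullback.snd (𝒰.f m) (𝒰.f k) ≫ (U k).ι from
            pullback.condition]
          exact ha' k _
        have e3 : (pullback.fst (𝒰.f m) (𝒰.f k) ≫ (U m).ι).appTop (φ m - φ k) = 0 := by
          rw [show φ m - φ k = (a - φ k) - (a - φ m) by ring, map_sub, e2, e1, sub_zero]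
        have h4 := (hdiff m k hmk).map (pullback.fst (𝒰.f m) (𝒰.f k) ≫ (U m).ι).appTop.hom
        rw [e3, isUnit_zero_iff] at h4
        haveI : Nontrivial Γ(pullback (𝒰.f m) (𝒰.f k), ⊤) :=
          ((pullback (𝒰.f m) (𝒰.f k)).presheaf.germ ⊤ q trivial).hom.domain_nontrivial
        exact zero_ne_one h4
      exact isInitialOfIsEmpty.hom_ext _ _
  have hw : 𝒰.glueMorphisms f hcompat ≫ G'.hom = T.hom := by
    refine 𝒰.hom_ext _ _ fun m => ?_
    rw [Scheme.Cover.ι_glueMorphisms_assoc]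
    show ((U m).ι ≫ T.hom) ≫ (gpt e m).left ≫ G'.hom = (U m).ι ≫ T.hom
    exact (congrArg (((U m).ι ≫ T.hom) ≫ ·) (Over.w (gpt e m))).trans (Category.comp_id _)
  refine ⟨Over.homMk (𝒰.glueMorphisms f hcompat) hw, ?_⟩
  refine Over.OverMorphism.ext (𝒰.hom_ext _ _ fun m => ?_)
  let j : Over.mk ((U m).ι ≫ T.hom) ⟶ T := Over.homMk (U m).ι
  have h5 : j ≫ Over.homMk (𝒰.glueMorphisms f hcompat) hw = toUnit _ ≫ gpt e m :=
    Over.OverMorphism.ext (𝒰.ι_glueMorphisms f hcompat m)
  have h6 : (j ≫ Over.homMk (𝒰.glueMorphisms f hcompat) hw) ≫ i = j ≫ d := by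
    rw [h5, Category.assoc]
    refine GaPts.gaFn_injective _ ?_
    rw [gaFn_gpt hp e he i hi, GaPts.gaFn_comp]
    have e1 := ha' m (𝟙 _)
    rw [Category.id_comp, map_sub, sub_eq_zero] at e1
    refine Eq.trans ?_ e1.symm
    exact (RingHom.congr_fun (RingHom.ext_zmod (((U m).ι.appTop.hom).comp φ) _) m).symm
  exact congrArg CommaMorphism.left h6

end Points

theorem prop_asMap (hp2 : 2 ≤ p) (F : Red.Ga S ⟶ Red.Ga S)
    (hF : ∀ (T : Over S) (x : T ⟶ Red.Ga S), Red.gaFn (x ≫ F) = Red.gaFn x ^ p) :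
    Flat (asMap F).left ∧ Surjective (asMap F).left ∧ QuasiCompact (asMap F).left := by
  let R := ULift.{u} ℤ
  let ψ := symHom R p
  let φ : Red.GaZ.{u} ⟶ Red.GaZ.{u} :=
    Over.homMk (Spec.map (CommRingCat.ofHom ψ.toRingHom)) (specULiftZIsTerminal.hom_ext _ _)
  let q := Limits.IsTerminal.from specULiftZIsTerminal S
  have heq : asMap F = (Over.pullback q).map φ := by
    refine GaPts.gaFn_injective _ ?_
    have h1 := gaFn_asMap F hF (𝟙 (Red.Ga S))
    rw [Category.id_comp] at h1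
    rw [h1]
    show _ = (((Over.pullback q).map φ).left ≫ pullback.fst _ _).appTop Red.gaCoord
    rw [show ((Over.pullback q).map φ).left ≫ pullback.fst Red.GaZ.hom q = pullback.fst _ _ ≫ φ.left from
      pullback.lift_fst _ _ _, Scheme.Hom.comp_appTop, CategoryTheory.comp_apply]
    have h2 : φ.left.appTop Red.gaCoord = (Red.gaCoord - Red.gaCoord ^ p) := by
      have e1 := ConcreteCategory.congr_hom (Scheme.ΓSpecIso_inv_naturality (CommRingCat.ofHom ψ.toRingHom))
        (SymmetricAlgebra.ι R R (ULift.up 1))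
      refine e1.symm.trans ?_
      have e2 : ψ (SymmetricAlgebra.ι R R 1) =
          SymmetricAlgebra.ι R R 1 - SymmetricAlgebra.ι R R 1 ^ p := by simp [ψ, symHom]
      refine (congrArg (Scheme.ΓSpecIso (CommRingCat.of (SymmetricAlgebra R R))).inv e2).trans ?_
      exact (map_sub _ _ _).trans (congrArg₂ (fun a b => a - b) rfl (map_pow _ _ _))
    rw [h2, map_sub, map_pow]
    simp [Red.gaFn, q]
  rw [heq]
  have hsq : IsPullback (pullback.fst Red.GaZ.hom q) ((Over.pullback q).map φ).left φ.left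
      (pullback.fst Red.GaZ.hom q) := by
    refine IsPullback.of_bot ?_ (pullback.lift_fst _ _ _).symm (IsPullback.of_hasPullback _ q)
    have e1 : ((Over.pullback q).map φ).left ≫ pullback.snd Red.GaZ.hom q = pullback.snd _ q :=
      pullback.lift_snd _ _ _
    rw [e1, Over.w φ]
    exact IsPullback.of_hasPullback _ q
  have hff := faithfullyFlat_symHom R p hp2
  have h2 : Flat φ.left ∧ Surjective φ.left := (flat_and_surjective_SpecMap_iff _).2 hff
  haveI : QuasiCompact φ.left :=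
    inferInstanceAs (QuasiCompact (Spec.map (CommRingCat.ofHom ψ.toRingHom)))
  exact ⟨MorphismProperty.of_isPullback (P := @Flat) hsq h2.1,
    MorphismProperty.of_isPullback (P := @Surjective) hsq h2.2,
    MorphismProperty.of_isPullback (P := @QuasiCompact) hsq inferInstance⟩

theorem isExactSeq_artinSchreier (hp : (p : Γ(S, ⊤)) = 0) (F : Red.Ga S ⟶ Red.Ga S)
    (hF : ∀ (T : Over S) (x : T ⟶ Red.Ga S), Red.gaFn (x ≫ F) = Red.gaFn x ^ p)
    {G' : Over S} [GrpObj G'] (e : G' ≅ TwC.const S (Multiplicative (ZMod p)))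
    (he : TwC.IsConstGrp (Multiplicative (ZMod p)) G' e)
    (i : G' ⟶ Red.Ga S) [IsMonHom i]
    (hi : Red.gaFn (TwC.pt S (Multiplicative (ZMod p)) (Multiplicative.ofAdd 1) ≫ e.inv ≫ i) = 1) :
    NonAbH1.IsExactSeq Scheme.fpqcPrecoverage i (asMap F) := by
  haveI hm := isMonHom_asMap hp F hF
  refine ⟨inferInstance, hm, comp_asMap hp F hF e he i hi, ?_, ?_⟩
  · refine isPullback_of_kernel i (asMap F) (comp_asMap hp F hF e he i hi)
      (fun T d h => exists_lift' hp F hF e he i hi T d h) fun T z z' h => ?_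
    rw [← mul_inv_eq_one]
    refine eq_one_of_comp hp e he i hi T _ ?_
    rw [comp_mul', h, ← comp_mul', mul_inv_cancel, MonObj.one_comp]
  · obtain ⟨hf, hs, hq⟩ := prop_asMap (Fact.out : p.Prime).two_le F hF
    refine ⟨Presieve.singleton (asMap F).left, Scheme.Hom.singleton_mem_fpqcPrecoverage _, ?_⟩
    rintro S' f ⟨⟩
    exact ⟨𝟙 _, Category.id_comp _⟩

end Groth.Agent.KummerLib
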