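import Groth.Agent.Magnet.Points
import Groth.Prelude.Def_Red2
import Groth.Prelude.Def_NonAbH2
import Mathlib

/-!
# The Kummer sequence
-/

set_option autoImplicit false
set_option linter.style.haveILetI false
set_option backward.isDefEq.respectTransparency false
set_option backward.isDefEq.respectTransparency.types false

universe u v w

open CategoryTheory CategoryTheory.Limits MonoidalCategory CartesianMonoidalCategory MonObj
  AlgebraicGeometry Opposite

noncomputable section

namespace Groth.Agent.KummerLib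

/-- The group algebra over a subgroup is faithfully flat. -/
theorem faithfullyFlat_mapDomain (R : Type u) [CommRing R] {M' M : Type v} [CommGroup M'] [CommGroup M]
    (θ : M' →* M) (hθ : Function.Injective θ) :
    (MonoidAlgebra.mapDomainAlgHom R R θ).toRingHom.FaithfullyFlat := by
  classical
  let A := MonoidAlgebra R M'
  let B := MonoidAlgebra R M
  let : Algebra A B := (MonoidAlgebra.mapDomainAlgHom R R θ).toRingHom.toAlgebra
  have halg : ∀ (m : M') (r : R), algebraMap A B (MonoidAlgebra.single m r) = MonoidAlgebra.single (θ m) r := fun m r => by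
    show MonoidAlgebra.mapDomainAlgHom R R θ (MonoidAlgebra.single m r) = _
    simp
  let N := θ.range
  let s : M ⧸ N → M := Quotient.out
  have hs : ∀ c, (QuotientGroup.mk (s c) : M ⧸ N) = c := fun c => Quotient.out_eq' c
  have hmem : ∀ x : M, ∃ m', θ m' = x * (s (QuotientGroup.mk x))⁻¹ := fun x => by
    have : x * (s (QuotientGroup.mk x))⁻¹ ∈ N := by
      rw [← QuotientGroup.eq_one_iff, QuotientGroup.mk_mul, QuotientGroup.mk_inv, hs, mul_inv_cancel]
    exact this
  choose q hq using hmem
  let Φ : ((M ⧸ N) →₀ A) →ₗ[A] B := Finsupp.linearCombination A fun c => MonoidAlgebra.single (s c) (1 : R)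
  let Ψ : B →+ ((M ⧸ N) →₀ A) := (Finsupp.liftAddHom fun x : M =>
      ((Finsupp.singleAddHom (QuotientGroup.mk x : M ⧸ N)).comp (MonoidAlgebra.singleAddHom (R := R) (q x)))).comp
    (MonoidAlgebra.coeffAddEquiv).toAddMonoidHom
  have hΨ : ∀ x r, Ψ (MonoidAlgebra.single x r) = Finsupp.single (QuotientGroup.mk x) (MonoidAlgebra.single (q x) r) := by
    intro x r
    show (Finsupp.liftAddHom _) (MonoidAlgebra.single x r).coeff = _
    rw [MonoidAlgebra.coeff_single, Finsupp.liftAddHom_apply_single]
    rfl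
  have hΦ : ∀ c m r, Φ (Finsupp.single c (MonoidAlgebra.single m r)) = MonoidAlgebra.single (θ m * s c) r := by
    intro c m r
    simp only [Φ, Finsupp.linearCombination_single]
    rw [Algebra.smul_def, halg, MonoidAlgebra.single_mul_single, _root_.mul_one]
  have h1 : ∀ b, Φ (Ψ b) = b := fun b => by
    induction b using MonoidAlgebra.induction_linear with
    | zero => simp
    | add a b ha hb => rw [map_add, map_add, ha, hb]
    | single x r => rw [hΨ, hΦ, hq, inv_mul_cancel_right]
  have h2 : ∀ v, Ψ (Φ v) = v := fun v => by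
    induction v using Finsupp.induction_linear with
    | zero => simp
    | add a b ha hb => rw [map_add, map_add, ha, hb]
    | single c a =>
      induction a using MonoidAlgebra.induction_linear with
      | zero => simp
      | add a b ha hb => rw [Finsupp.single_add, map_add, map_add, ha, hb]
      | single m r =>
        rw [hΦ, hΨ]
        have hc : (QuotientGroup.mk (θ m * s c) : M ⧸ N) = c := by
          rw [QuotientGroup.mk_mul, (QuotientGroup.eq_one_iff (θ m)).2 (show θ m ∈ N from ⟨m, rfl⟩), _root_.one_mul, hs]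
        have hm : q (θ m * s c) = m := hθ (by rw [hq, hc, mul_inv_cancel_right])
        rw [hc, hm]
  let e : ((M ⧸ N) →₀ A) ≃ₗ[A] B := LinearEquiv.ofBijective Φ
    ⟨Function.LeftInverse.injective h2, Function.RightInverse.surjective h1⟩
  have : Module.FaithfullyFlat A B := Module.FaithfullyFlat.of_linearEquiv _ _ e.symm
  exact RingHom.faithfullyFlat_algebraMap_iff.2 this

variable {S : Scheme.{u}}

/-- postcomposition with a homomorphism commutes with products -/
theorem comp_mul' {G H T : Over S} [MonObj G] [MonObj H] (x y : T ⟶ G) (φ : G ⟶ H) [IsMonHom φ] :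
    (x * y) ≫ φ = (x ≫ φ) * (y ≫ φ) := by
  simp [MonObj.mul_comp]

/-- the map of `n`-th roots of unity into `G_m` -/
abbrev μMap (S : Scheme.{u}) (n : ℕ) :
    _root_.Magnet.AMonS S (ZMod n) ⟶ _root_.Magnet.AMonS S ℤ :=
  _root_.Magnet.AMonS.map S (Int.castAddHom (ZMod n))

/-- the `n`-th power map of `G_m` -/
abbrev powMap (S : Scheme.{u}) (n : ℕ) :
    _root_.Magnet.AMonS S ℤ ⟶ _root_.Magnet.AMonS S ℤ :=
  _root_.Magnet.AMonS.map S (zmultiplesHom ℤ (n : ℤ))

theorem DSmap_eq {M N : Type} [AddCommGroup M] [AddCommGroup N] (φ : M →+ N) :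
    Red.DSmap S φ = _root_.Magnet.AMonS.map S φ := by
  have : Red.diagMap (ULift.{u} ℤ) φ = _root_.Magnet.AMon.map (ULift.{u} ℤ) φ := Over.OverMorphism.ext rfl
  exact congrArg (Over.pullback _).map this

open Groth.Agent.Magnet in
theorem map_zero_eq {T : Over S} {M N : Type} [AddCommGroup M] [AddCommGroup N]
    (x : T ⟶ _root_.Magnet.AMonS S M) : x ≫ _root_.Magnet.AMonS.map S (0 : N →+ M) = 1 := by
  refine points.injective ?_
  rw [map_one, points_map]
  exact MonoidHom.ext fun k => map_one (points x)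

theorem comp_eq_one (n : ℕ) : μMap S n ≫ powMap S n = 1 := by
  have h : (Int.castAddHom (ZMod n)).comp (zmultiplesHom ℤ (n : ℤ)) = 0 := by
    ext; simp [zmultiplesHom_apply, ZMod.natCast_self]
  rw [μMap, powMap, ← _root_.Magnet.AMonS.map_comp, h]
  exact (Category.id_comp _).symm.trans (map_zero_eq _)

open Groth.Agent.Magnet in
theorem injective_comp {T : Over S} (n : ℕ) (z z' : T ⟶ _root_.Magnet.AMonS S (ZMod n))
    (h : z ≫ μMap S n = z' ≫ μMap S n) : z = z' := by
  refine points_ext fun m => ?_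
  obtain ⟨k, hk⟩ := ZMod.intCast_surjective m.toAdd
  have := congrArg (fun w => points w (Multiplicative.ofAdd k)) h
  simp only [points_map] at this
  have hm : m = Multiplicative.ofAdd (Int.castAddHom (ZMod n) k) :=
    (congrArg Multiplicative.ofAdd hk).symm
  rw [hm]
  exact this

open Groth.Agent.Magnet in
theorem exists_lift {T : Over S} (n : ℕ) (d : T ⟶ _root_.Magnet.AMonS S ℤ) (h : d ≫ powMap S n = 1) :
    ∃ z : T ⟶ _root_.Magnet.AMonS S (ZMod n), z ≫ μMap S n = d := by
  let χ : Multiplicative ℤ →* Γ(T.left, ⊤)ˣ := (points d).toHomUnits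
  let f : ℤ →+ Additive Γ(T.left, ⊤)ˣ := AddMonoidHom.mk' (fun k => Additive.ofMul (χ (Multiplicative.ofAdd k)))
    fun a b => by rw [ofAdd_add, map_mul]; rfl
  have hf : f n = 0 := by
    have h1 : points d (Multiplicative.ofAdd ((n : ℤ))) = 1 := by
      have := DFunLike.congr_fun ((points_map (zmultiplesHom ℤ (n : ℤ)) d).symm.trans
        ((congrArg points h).trans (map_one _))) (Multiplicative.ofAdd (1 : ℤ))
      simpa [zmultiplesHom_apply] using this
    exact Additive.toMul.injective (Units.ext h1)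
  let g : ZMod n →+ Additive Γ(T.left, ⊤)ˣ := ZMod.lift n ⟨f, hf⟩
  let G : Multiplicative (ZMod n) →* Γ(T.left, ⊤)ˣ :=
    { toFun := fun m => (g m.toAdd).toMul
      map_one' := by rw [toAdd_one, map_zero]; rfl
      map_mul' := fun a b => by rw [toAdd_mul, map_add]; rfl }
  refine ⟨points.symm ((Units.coeHom _).comp G), points_ext fun k => ?_⟩
  rw [points_map, MonoidHom.comp_apply, MulEquiv.apply_symm_apply]
  show ((g (Int.castAddHom (ZMod n) k.toAdd)).toMul : Γ(T.left, ⊤)) = _
  rw [show g (Int.castAddHom (ZMod n) k.toAdd) = f k.toAdd from ZMod.lift_coe n ⟨f, hf⟩ k.toAdd]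
  rfl


theorem prop_powMap (n : ℕ) (hn : 0 < n) :
    Flat (powMap S n).left ∧ Surjective (powMap S n).left ∧ QuasiCompact (powMap S n).left := by
  let R := ULift.{u} ℤ
  let φ := _root_.Magnet.AMon.map R (zmultiplesHom ℤ (n : ℤ))
  let p := Limits.IsTerminal.from specULiftZIsTerminal S
  have hsq : IsPullback (pullback.fst (_root_.Magnet.AMon R ℤ).hom p) (powMap S n).left φ.left
      (pullback.fst (_root_.Magnet.AMon R ℤ).hom p) := by
    refine IsPullback.of_bot ?_ (pullback.lift_fst _ _ _).symm (IsPullback.of_hasPullback _ p)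
    have e1 : (powMap S n).left ≫ pullback.snd (_root_.Magnet.AMon R ℤ).hom p = pullback.snd _ p :=
      pullback.lift_snd _ _ _
    rw [e1, Over.w φ]
    exact IsPullback.of_hasPullback _ p
  have hff := faithfullyFlat_mapDomain R (AddMonoidHom.toMultiplicative (zmultiplesHom ℤ (n : ℤ)))
    (fun a b hab => by
      have := congrArg Multiplicative.toAdd hab
      simp [zmultiplesHom_apply] at this
      exact Multiplicative.toAdd.injective (this.resolve_right hn.ne'))
  have h2 : Flat φ.left ∧ Surjective φ.left := (flat_and_surjective_SpecMap_iff _).2 hff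
  haveI : QuasiCompact φ.left := by
    rw [_root_.Magnet.AMon.map_left]
    exact inferInstanceAs (QuasiCompact (Spec.map (CommRingCat.ofHom
      (MonoidAlgebra.mapDomainBialgHom R (AddMonoidHom.toMultiplicative (zmultiplesHom ℤ (n : ℤ)))).toAlgHom.toRingHom)))
  exact ⟨MorphismProperty.of_isPullback (P := @Flat) hsq h2.1,
    MorphismProperty.of_isPullback (P := @Surjective) hsq h2.2,
    MorphismProperty.of_isPullback (P := @QuasiCompact) hsq inferInstance⟩

theorem isPullback_of_kernel {G G' G'' : Over S} [GrpObj G] [GrpObj G'] [GrpObj G'']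
    (u : G' ⟶ G) (v : G ⟶ G'') [IsMonHom v] (huv : u ≫ v = 1)
    (hlift : ∀ (T : Over S) (d : T ⟶ G), d ≫ v = 1 → ∃ z : T ⟶ G', z ≫ u = d)
    (hinj : ∀ (T : Over S) (z z' : T ⟶ G'), z ≫ u = z' ≫ u → z = z') :
    IsPullback (fst G G') ((G ◁ u) ≫ μ[G]) v v := by
  have hr : (G ◁ u) ≫ μ[G] = fst G G' * (snd G G' ≫ u) := by
    rw [Hom.mul_def]
    congr 1
  have hw : fst G G' ≫ v = ((G ◁ u) ≫ μ[G]) ≫ v := by
    rw [hr, comp_mul', Category.assoc, huv, MonObj.comp_one, _root_.mul_one]
  refine ⟨⟨hw⟩, ⟨?_⟩⟩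
  have hd : ∀ c : PullbackCone v v, ((c.fst)⁻¹ * c.snd) ≫ v = 1 := fun c => by
    rw [comp_mul', ← c.condition, ← comp_mul', inv_mul_cancel, MonObj.one_comp]
  choose z hz using fun c : PullbackCone v v => hlift _ _ (hd c)
  refine PullbackCone.IsLimit.mk hw (fun c => lift c.fst (z c)) (fun c => lift_fst _ _) (fun c => ?_)
    (fun c m h1 h2 => ?_)
  · rw [hr, MonObj.comp_mul, lift_fst, lift_snd_assoc]
    exact (congrArg (c.fst * ·) (hz c)).trans (mul_inv_cancel_left _ _)
  · refine CartesianMonoidalCategory.hom_ext _ _ (h1.trans (lift_fst _ _).symm) ?_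
    rw [lift_snd]
    refine hinj _ _ _ ?_
    rw [hr, MonObj.comp_mul, h1] at h2
    refine Eq.trans ?_ (hz c).symm
    rw [Category.assoc]
    exact (mul_right_inj c.fst).1 (h2.trans (mul_inv_cancel_left _ _).symm)

theorem isExactSeq (n : ℕ) (hn : 0 < n) :
    NonAbH1.IsExactSeq Scheme.fpqcPrecoverage
      (Red.DSmap S (Int.castAddHom (ZMod n))) (Red.chi S (n : ℤ)) := by
  have e1 : Red.DSmap S (Int.castAddHom (ZMod n)) = μMap S n := DSmap_eq _
  have e2 : Red.chi S (n : ℤ) = powMap S n := DSmap_eq _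
  rw [e1, e2]
  haveI hu : IsMonHom (M := Red.DS S (ZMod n)) (N := Red.Gm S) (μMap S n) :=
    (inferInstance : IsMonHom (μMap S n))
  haveI hv : IsMonHom (M := Red.Gm S) (N := Red.Gm S) (powMap S n) :=
    (inferInstance : IsMonHom (powMap S n))
  refine ⟨hu, hv, comp_eq_one n, ?_, ?_⟩
  · exact isPullback_of_kernel (μMap S n) (powMap S n) (comp_eq_one n)
      (fun T d h => exists_lift n d h) (fun T z z' h => injective_comp n z z' h)
  · obtain ⟨hf, hs, hq⟩ := prop_powMap (S := S) n hn
    refine ⟨Presieve.singleton (powMap S n).left, Scheme.Hom.singleton_mem_fpqcPrecoverage _, ?_⟩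
    rintro S' f ⟨⟩
    exact ⟨𝟙 _, Category.id_comp _⟩

end Groth.Agent.KummerLib
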